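import Mathlib
import Groth.Agent.HilbPts.Basic

/-!
# Relative Hilbert schemes of points inside the absolute one
-/

set_option autoImplicit false
set_option linter.style.haveILetI false

set_option backward.isDefEq.respectTransparency false
set_option backward.isDefEq.respectTransparency.types false
universe u

open CategoryTheory CategoryTheory.Limits AlgebraicGeometry

noncomputable section

namespace Groth.HilbRel

open Groth.HilbPts

variable {K X B C : Scheme.{u}} (g : X ⟶ K) (b : B ⟶ K) (π : C ⟶ B) (j : C ⟶ X) (h : j ≫ g = π ≫ b)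

/-- An object over `B` seen over `K`. -/
def toK (T : Over B) : Over K := Over.mk (T.hom ≫ b)

/-- A morphism over `B` seen over `K`. -/
def mapK {T T' : Over B} (φ : T' ⟶ T) : toK b T' ⟶ toK b T :=
  Over.homMk φ.left (Over.w_assoc φ b)

@[simp]
lemma mapK_left {T T' : Over B} (φ : T' ⟶ T) : (mapK b φ).left = φ.left := rfl

/-- `C ×_B T ⟶ X ×_K T`. -/
abbrev cMap (T : Over B) : PicF.XT π T ⟶ PicF.XT g (toK b T) :=
  pullback.map π T.hom g (toK b T).hom j (𝟙 T.left) b h.symm (Category.id_comp _).symm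

@[reassoc (attr := simp)]
lemma cMap_fst (T : Over B) :
    cMap g b π j h T ≫ pullback.fst g (toK b T).hom = pullback.fst π T.hom ≫ j :=
  pullback.lift_fst _ _ _

@[reassoc (attr := simp)]
lemma cMap_snd (T : Over B) :
    cMap g b π j h T ≫ pullback.snd g (toK b T).hom = pullback.snd π T.hom :=
  (pullback.lift_snd _ _ _).trans (Category.comp_id _)

lemma cMap_XTmap {T T' : Over B} (φ : T' ⟶ T) :
    cMap g b π j h T' ≫ PicF.XTmap g (mapK b φ) = PicF.XTmap π φ ≫ cMap g b π j h T := by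
  apply pullback.hom_ext <;> simp

instance mono_cMap [Mono j] (T : Over B) : Mono (cMap g b π j h T) := by
  refine ⟨fun {W} y₁ y₂ e => ?_⟩
  apply pullback.hom_ext
  · rw [← cancel_mono j, Category.assoc, Category.assoc, ← cMap_fst g b π j h T, reassoc_of% e]
  · rw [← cMap_snd g b π j h T, reassoc_of% e]

theorem isClosedImmersion_cMap [IsSeparated g] [IsProper π] [Mono j] (T : Over B) :
    IsClosedImmersion (cMap g b π j h T) := by
  have : IsProper (cMap g b π j h T ≫ pullback.snd g (toK b T).hom) := by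
    rw [cMap_snd]
    infer_instance
  have := IsProper.of_comp (cMap g b π j h T) (pullback.snd g (toK b T).hom)
  exact (IsClosedImmersion.iff_isProper_and_mono _).2 ⟨this, inferInstance⟩

/-- The image in `X ×_K T` of a closed subscheme of `C ×_B T`. -/
abbrev rel (T : Over B) (I : (PicF.XT π T).IdealSheafData) : (PicF.XT g (toK b T)).IdealSheafData :=
  (I.subschemeι ≫ cMap g b π j h T).ker

variable [IsSeparated g] [IsProper π] [Mono j]

lemma rel_le_ker (T : Over B) (I : (PicF.XT π T).IdealSheafData) {W : Scheme.{u}}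
    (x : W ⟶ PicF.XT g (toK b T)) :
    rel g b π j h T I ≤ x.ker ↔ ∃ y, y ≫ cMap g b π j h T = x ∧ I ≤ y.ker := by
  have := isClosedImmersion_cMap g b π j h T
  rw [← exists_fac_iff_ker_le]
  constructor
  · rintro ⟨z, rfl⟩
    exact ⟨z ≫ I.subschemeι, Category.assoc _ _ _, (le_ker_iff _ _).2 ⟨z, rfl⟩⟩
  · rintro ⟨y, rfl, hy⟩
    obtain ⟨z, rfl⟩ := (le_ker_iff _ _).1 hy
    exact ⟨z, (Category.assoc _ _ _).symm⟩

lemma rel_injective (T : Over B) : Function.Injective (rel g b π j h T) := by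
  intro I J e
  refine ideal_ext fun W y => ?_
  have := rel_le_ker g b π j h T I (y ≫ cMap g b π j h T)
  rw [e, rel_le_ker g b π j h T J] at this
  constructor
  · intro hI
    obtain ⟨y', h1, h2⟩ := this.2 ⟨y, rfl, hI⟩
    rw [cancel_mono] at h1; exact h1 ▸ h2
  · intro hJ
    obtain ⟨y', h1, h2⟩ := this.1 ⟨y, rfl, hJ⟩
    rw [cancel_mono] at h1; exact h1 ▸ h2

lemma pull_rel {T T' : Over B} (φ : T' ⟶ T) (I : (PicF.XT π T).IdealSheafData) :
    HilbD.pull g (mapK b φ) (rel g b π j h T I) = rel g b π j h T' (HilbD.pull π φ I) := by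
  refine ideal_ext fun W x => ?_
  rw [pull_le_ker, rel_le_ker, rel_le_ker]
  constructor
  · rintro ⟨y, hy, hyI⟩
    have hs : y ≫ pullback.snd π T.hom = x ≫ pullback.snd g (toK b T').hom ≫ φ.left := by
      have := congrArg (fun e => e ≫ pullback.snd g (toK b T).hom) hy
      simpa using this
    let y' : W ⟶ PicF.XT π T' := pullback.lift (y ≫ pullback.fst π T.hom)
      (x ≫ pullback.snd g (toK b T').hom) (by
        rw [Category.assoc, pullback.condition, reassoc_of% hs, Category.assoc, Over.w φ])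
    have hy' : y' ≫ cMap g b π j h T' = x := by
      apply pullback.hom_ext
      · have := congrArg (fun e => e ≫ pullback.fst g (toK b T).hom) hy
        simp only [Category.assoc, cMap_fst, XTmap_fst] at this
        rw [Category.assoc, cMap_fst, pullback.lift_fst_assoc, Category.assoc, this]
      · rw [Category.assoc, cMap_snd, pullback.lift_snd]
    refine ⟨y', hy', ?_⟩
    rw [pull_le_ker]
    have : y' ≫ PicF.XTmap π φ = y := by
      rw [← cancel_mono (cMap g b π j h T), Category.assoc, ← cMap_XTmap, reassoc_of% hy', hy]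
    rwa [this]
  · rintro ⟨y, rfl, hy⟩
    rw [pull_le_ker] at hy
    exact ⟨_, by rw [Category.assoc, ← cMap_XTmap, Category.assoc], hy⟩

omit [IsSeparated g] [IsProper π] [Mono j] in
theorem epi_of_finLocFree {W T : Scheme.{u}} (p : W ⟶ T) {d : ℕ} (hd : 0 < d)
    (hp : Mor2.IsFinLocFreeOfDeg d p) : EffectiveEpi p := by
  obtain ⟨⟨h1, h2, h3⟩, h4⟩ := hp
  have : Surjective p := (Scheme.Hom.one_le_finrank_iff_surjective p).1 fun y => by
    rw [h4 y]
    exact hd
  infer_instance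

variable [IsSeparated b] {ℓ : ℕ} (hℓ : 0 < ℓ)
variable (H : Over K) (Z : HilbD.Obj g ℓ H) (hZ : HilbD.IsUniversal g ℓ H Z)
variable (H' : Over B) (Z' : HilbD.Obj π ℓ H') (hZ' : HilbD.IsUniversal π ℓ H' Z')
variable (m : toK b H' ⟶ H) (hm : HilbD.pull g m Z.1 = rel g b π j h H' Z'.1)

include hm in
omit [IsSeparated b] in
theorem exists_family_lift {W : Scheme.{u}} (a : W ⟶ Z.1.subscheme) (v : W ⟶ H'.left)
    (hv : v ≫ m.left = a ≫ Z.1.subschemeι ≫ PicF.XTproj g H) :
    ∃ y : W ⟶ PicF.XT π H', y ≫ pullback.fst π H'.hom ≫ j = a ≫ Z.1.subschemeι ≫ pullback.fst g H.hom ∧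
      y ≫ pullback.snd π H'.hom = v := by
  let w : W ⟶ PicF.XT g (toK b H') := pullback.lift (a ≫ Z.1.subschemeι ≫ pullback.fst g H.hom) v (by
    show _ = v ≫ (toK b H').hom
    rw [← Over.w m, reassoc_of% hv, Category.assoc, Category.assoc, pullback.condition])
  have hw : w ≫ PicF.XTmap g m = a ≫ Z.1.subschemeι := by
    apply pullback.hom_ext
    · simp [w]
    · simp only [Category.assoc, XTmap_proj, w, pullback.lift_snd_assoc, hv]
  have h1 : HilbD.pull g m Z.1 ≤ w.ker := (pull_le_ker g m Z.1 w).2 ((le_ker_iff _ _).2 ⟨a, hw.symm⟩)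
  rw [hm, rel_le_ker] at h1
  obtain ⟨y, hy, -⟩ := h1
  refine ⟨y, ?_, ?_⟩
  · rw [← cMap_fst g b π j h H', reassoc_of% hy, pullback.lift_fst]
  · rw [← cMap_snd g b π j h H', reassoc_of% hy, pullback.lift_snd]

include hℓ hZ' hm in
omit [IsSeparated b] in
theorem mono_classifier : Mono m.left := by
  refine ⟨fun {T} g₁ g₂ e => ?_⟩
  let T₁ : Over B := Over.mk (g₁ ≫ H'.hom)
  let φ₁ : T₁ ⟶ H' := Over.homMk g₁ rfl
  let p := pullback.snd (Z'.1.subschemeι ≫ PicF.XTproj π H') g₁
  have hp : Mor2.IsFinLocFreeOfDeg ℓ p := isFinLocFreeOfDeg_of_isPullback (IsPullback.of_hasPullback _ _) Z'.2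
  have : EffectiveEpi p := epi_of_finLocFree p hℓ hp
  let y₁ := pullback.fst (Z'.1.subschemeι ≫ PicF.XTproj π H') g₁ ≫ Z'.1.subschemeι
  have hy₁ : rel g b π j h H' Z'.1 ≤ (y₁ ≫ cMap g b π j h H').ker :=
    (rel_le_ker g b π j h H' Z'.1 _).2 ⟨y₁, rfl, (le_ker_iff _ _).2 ⟨_, rfl⟩⟩
  rw [← hm, pull_le_ker, le_ker_iff] at hy₁
  obtain ⟨a, ha⟩ := hy₁
  have hs : y₁ ≫ pullback.snd π H'.hom = p ≫ g₁ := (Category.assoc _ _ _).trans pullback.condition
  obtain ⟨y₂, hy₂, hy₂'⟩ := exists_family_lift g b π j h H Z H' Z' m hm a (p ≫ g₂) (by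
    rw [reassoc_of% ha, XTmap_proj, cMap_snd_assoc, reassoc_of% hs, Category.assoc, e])
  rw [reassoc_of% ha, XTmap_fst, cMap_fst] at hy₂
  have hc : y₂ ≫ pullback.fst π H'.hom = y₁ ≫ pullback.fst π H'.hom := by
    rw [← cancel_mono j, Category.assoc, hy₂]
    simp only [y₁, Category.assoc]
  have ht : g₁ ≫ H'.hom = g₂ ≫ H'.hom := by
    rw [← cancel_epi p, ← reassoc_of% hs, ← pullback.condition, ← reassoc_of% hc, pullback.condition,
      reassoc_of% hy₂']
  let φ₂ : T₁ ⟶ H' := Over.homMk g₂ ht.symm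
  suffices φ₁ = φ₂ from congrArg (fun φ : T₁ ⟶ H' => φ.left) this
  obtain ⟨φ, -, huniq⟩ := hZ' T₁ (pullObj φ₁ Z')
  refine (huniq φ₁ rfl).trans (huniq φ₂ ?_).symm
  show HilbD.pull π φ₂ Z'.1 = HilbD.pull π φ₁ Z'.1
  refine rel_injective g b π j h T₁ ?_
  rw [← pull_rel, ← pull_rel, ← hm, pull_pull, pull_pull,
    show mapK b φ₂ ≫ m = mapK b φ₁ ≫ m from Over.OverMorphism.ext e.symm]

include hℓ hZ hZ' hm in
theorem isClosedImmersion_classifier [IsClosedImmersion j] : IsClosedImmersion m.left := by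
  let p := Z.1.subschemeι ≫ PicF.XTproj g H
  -- the locus where the family lies in `C`
  let c₁ := pullback.snd j (Z.1.subschemeι ≫ pullback.fst g H.hom)
  obtain ⟨T₁, i₁, hi₁, hT₁⟩ := exists_closed_inLocus c₁ p Z.2.1
  let q := pullback.snd p i₁
  let a₁ := pullback.fst p i₁
  have hq : Mor2.IsFinLocFreeOfDeg ℓ q := isFinLocFreeOfDeg_of_isPullback (IsPullback.of_hasPullback _ _) Z.2
  obtain ⟨z₁, hz₁⟩ := (hT₁ _ i₁).2 ⟨𝟙 _, Category.id_comp _⟩
  obtain ⟨cC, hcC⟩ : ∃ cC, cC ≫ j = a₁ ≫ Z.1.subschemeι ≫ pullback.fst g H.hom :=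
    ⟨z₁ ≫ pullback.fst j (Z.1.subschemeι ≫ pullback.fst g H.hom), by
      rw [Category.assoc, pullback.condition, reassoc_of% hz₁]⟩
  have hu : cC ≫ π ≫ b = q ≫ i₁ ≫ H.hom := by
    rw [← h, reassoc_of% hcC, pullback.condition]
    exact pullback.condition_assoc H.hom
  -- the locus where the map to `B` descends
  let e := pullback.fst q q ≫ q
  have he : Mor2.IsFinLocFree e := by
    obtain ⟨k1, k2, k3⟩ := hq.1
    exact ⟨inferInstance, inferInstance, inferInstance⟩
  let v : pullback q q ⟶ pullback b b :=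
    pullback.lift (pullback.fst q q ≫ cC ≫ π) (pullback.snd q q ≫ cC ≫ π)
      (by rw [Category.assoc, Category.assoc, Category.assoc, Category.assoc, hu, pullback.condition_assoc])
  obtain ⟨T₂, i₂, hi₂, hT₂⟩ := exists_closed_inLocus (pullback.fst v (pullback.diagonal b)) e he
  obtain ⟨z₂, hz₂⟩ := (hT₂ _ i₂).2 ⟨𝟙 _, Category.id_comp _⟩
  let q₂ := pullback.snd q i₂
  let r₂ := pullback.fst q i₂
  have hq₂ : Mor2.IsFinLocFreeOfDeg ℓ q₂ := isFinLocFreeOfDeg_of_isPullback (IsPullback.of_hasPullback _ _) hq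
  have : EffectiveEpi q₂ := epi_of_finLocFree q₂ hℓ hq₂
  have hdesc : ∀ {W : Scheme.{u}} (g₁ g₂ : W ⟶ pullback q i₂), g₁ ≫ q₂ = g₂ ≫ q₂ →
      g₁ ≫ r₂ ≫ cC ≫ π = g₂ ≫ r₂ ≫ cC ≫ π := by
    intro W g₁ g₂ hg
    let R : W ⟶ pullback q q := pullback.lift (g₁ ≫ r₂) (g₂ ≫ r₂)
      (by rw [Category.assoc, Category.assoc, pullback.condition, reassoc_of% hg])
    let R' : W ⟶ pullback e i₂ := pullback.lift R (g₁ ≫ q₂)
      (by rw [pullback.lift_fst_assoc, Category.assoc, Category.assoc, pullback.condition])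
    have hR : (R' ≫ z₂ ≫ pullback.snd v (pullback.diagonal b)) ≫ pullback.diagonal b = R ≫ v := by
      rw [Category.assoc, Category.assoc, ← pullback.condition, reassoc_of% hz₂, pullback.lift_fst_assoc]
    have h1 := congrArg (fun x => x ≫ pullback.fst b b) hR
    have h2 := congrArg (fun x => x ≫ pullback.snd b b) hR
    simp only [Category.assoc, pullback.diagonal_fst, pullback.diagonal_snd, v, R,
      pullback.lift_fst, pullback.lift_snd, pullback.lift_fst_assoc, pullback.lift_snd_assoc] at h1 h2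
    exact h1.symm.trans h2
  let t : T₂ ⟶ B := EffectiveEpi.desc q₂ (r₂ ≫ cC ≫ π) hdesc
  have ht : q₂ ≫ t = r₂ ≫ cC ≫ π := EffectiveEpi.fac q₂ _ hdesc
  let T : Over B := Over.mk t
  let φ : toK b T ⟶ H := Over.homMk (i₂ ≫ i₁) (by
    show (i₂ ≫ i₁) ≫ H.hom = t ≫ b
    rw [← cancel_epi q₂, reassoc_of% ht, hu]
    simp only [Category.assoc]
    exact (pullback.condition_assoc _).symm)
  let cT : pullback q i₂ ⟶ PicF.XT π T := pullback.lift (r₂ ≫ cC) q₂ (by rw [Category.assoc, ← ht]; rfl)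
  have sqbase : IsPullback (r₂ ≫ a₁) q₂ p (i₂ ≫ i₁) :=
    ((IsPullback.of_hasPullback q i₂).paste_horiz (IsPullback.of_hasPullback p i₁))
  have sq : IsPullback (r₂ ≫ a₁) (cT ≫ cMap g b π j h T) Z.1.subschemeι (PicF.XTmap g φ) := by
    refine IsPullback.of_bot ?_ ?_ (isPullback_XTmap g φ)
    · rw [Category.assoc, cMap_snd, pullback.lift_snd]
      exact sqbase
    · apply pullback.hom_ext
      · have e1 : PicF.XTmap g φ ≫ pullback.fst g H.hom = pullback.fst g (toK b T).hom := XTmap_fst g φ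
        simp only [Category.assoc, e1, cMap_fst, cT, pullback.lift_fst_assoc, hcC]
      · simp only [Category.assoc, XTmap_proj, cMap_snd_assoc]
        rw [show cT ≫ pullback.snd π T.hom ≫ φ.left = q₂ ≫ i₂ ≫ i₁ from pullback.lift_snd_assoc _ _ _ _]
        simpa only [Category.assoc] using sqbase.w
  have : IsClosedImmersion (cT ≫ cMap g b π j h T) :=
    MorphismProperty.of_isPullback sq inferInstance
  have := isClosedImmersion_cMap g b π j h T
  have : IsClosedImmersion cT := IsClosedImmersion.of_comp_isClosedImmersion cT (cMap g b π j h T)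
  let W : HilbD.Obj π ℓ T := ⟨cT.ker, (isFinLocFreeOfDeg_ker cT _ ℓ).2
    (by rw [show cT ≫ PicF.XTproj π T = q₂ from pullback.lift_snd _ _ _]; exact hq₂)⟩
  have hW : rel g b π j h T W.1 = HilbD.pull g φ Z.1 := by
    refine ideal_ext fun V x => ?_
    rw [rel_le_ker, pull_le_ker, le_ker_iff]
    constructor
    · rintro ⟨y, rfl, hy⟩
      obtain ⟨z, rfl⟩ := (exists_fac_iff_ker_le cT y).2 hy
      exact ⟨z ≫ r₂ ≫ a₁, by
        have e2 := congrArg (fun e => z ≫ e) sq.w
        simpa only [Category.assoc] using e2⟩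
    · rintro ⟨z, hz⟩
      exact ⟨sq.lift z x hz ≫ cT, by rw [Category.assoc, sq.lift_snd],
        (exists_fac_iff_ker_le cT _).1 ⟨_, rfl⟩⟩
  obtain ⟨s, hs, -⟩ := hZ' T W
  have hsm : s.left ≫ m.left = i₂ ≫ i₁ := by
    obtain ⟨χ, -, huniq⟩ := hZ (toK b T) (pullObj φ Z)
    refine congrArg (fun χ : toK b T ⟶ H => χ.left) ((huniq (mapK b s ≫ m) ?_).trans (huniq φ rfl).symm)
    show HilbD.pull g (mapK b s ≫ m) Z.1 = HilbD.pull g φ Z.1
    rw [← pull_pull, hm, pull_rel, hs, hW]
  -- the classifier lands in the locus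
  obtain ⟨h₁, hh₁⟩ : ∃ h₁, h₁ ≫ i₁ = m.left := by
    rw [← hT₁]
    obtain ⟨y, hy, -⟩ := exists_family_lift g b π j h H Z H' Z' m hm (pullback.fst p m.left)
      (pullback.snd p m.left) pullback.condition.symm
    exact ⟨pullback.lift (y ≫ pullback.fst π H'.hom) (pullback.fst p m.left) (by rw [Category.assoc, hy]),
      pullback.lift_snd _ _ _⟩
  obtain ⟨h₂, hh₂⟩ : ∃ h₂, h₂ ≫ i₂ = h₁ := by
    rw [← hT₂]
    have key : ∀ r : pullback e h₁ ⟶ pullback p i₁, r ≫ q = pullback.snd e h₁ ≫ h₁ →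
        r ≫ cC ≫ π = pullback.snd e h₁ ≫ H'.hom := by
      intro r hr
      obtain ⟨y, hy, hy'⟩ := exists_family_lift g b π j h H Z H' Z' m hm (r ≫ a₁) (pullback.snd e h₁) (by
        rw [← hh₁, ← reassoc_of% hr, Category.assoc]
        exact congrArg (r ≫ ·) pullback.condition.symm)
      have hc : y ≫ pullback.fst π H'.hom = r ≫ cC := by
        rw [← cancel_mono j, Category.assoc, hy, Category.assoc, Category.assoc, hcC]
      rw [← reassoc_of% hc, pullback.condition, reassoc_of% hy']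
    refine ⟨pullback.lift (pullback.fst e h₁) (pullback.fst e h₁ ≫ pullback.fst q q ≫ cC ≫ π) ?_,
      pullback.lift_fst _ _ _⟩
    have k1 := key (pullback.fst e h₁ ≫ pullback.fst q q) (by
      rw [Category.assoc]; exact pullback.condition)
    have k2 := key (pullback.fst e h₁ ≫ pullback.snd q q) (by
      rw [Category.assoc, ← pullback.condition]; exact pullback.condition)
    simp only [Category.assoc] at k1 k2
    apply pullback.hom_ext
    · simp [v]
    · simp only [Category.assoc, v, pullback.lift_snd, pullback.diagonal_snd, Category.comp_id, k1, k2]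
  have hmono := mono_classifier g b π j h hℓ H Z H' Z' hZ' m hm
  have hfac : h₂ ≫ i₂ ≫ i₁ = m.left := by rw [reassoc_of% hh₂, hh₁]
  have hiso : IsIso h₂ := by
    refine ⟨s.left, ?_, ?_⟩
    · rw [← cancel_mono m.left, Category.assoc, hsm, hfac, Category.id_comp]
    · rw [← cancel_mono (i₂ ≫ i₁), Category.assoc, hfac, hsm, Category.id_comp]
  rw [← hfac]
  infer_instance

end Groth.HilbRel
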